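import Groth.Prelude.Def_Flat
import Groth.Agent.S2568
import Groth.Agent.Lib.VarDim.Irred
import Groth.Agent.Lib.FibDim14.Basic
import Groth.Agent.Lib.UnivOpenFin5.Normal

/-!
A family over a normal base all of whose fibres have the same dimension `d`: every point of a fibre
lies on a `d`-dimensional component of it, and the family is universally open.
-/

universe u

open CategoryTheory AlgebraicGeometry TopologicalSpace

set_option backward.isDefEq.respectTransparency.types false

namespace Groth.Agent.FamCyc26

open Groth.Agent.VarDim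

variable {k : Type u} [Field k] {X Y : Scheme.{u}} (q : Y ⟶ Spec (CommRingCat.of k)) (f : X ⟶ Y)
  [LocallyOfFiniteType q] [LocallyOfFiniteType f]

include q in
theorem sdim_eq_add_rd (x : X) : sdim (f ≫ q) x = sdim q (f x) + FibDim14.rd f x := by
  obtain ⟨z, hz⟩ : ∃ z, f.fiberι (f x) z = x := ⟨f.asFiber x, f.fiberι_asFiber x⟩
  have h1 := sdim_fiber q f (f x) z
  have h2 := FibDim14.rd_fiberι f (f x) z
  rw [hz] at h1 h2
  rw [h1, h2]
  rfl

theorem sdim_le_of_specializes {x y : X} (p : X ⟶ Spec (CommRingCat.of k)) [LocallyOfFiniteType p]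
    (h : x ⤳ y) : sdim p y ≤ sdim p x := by
  rcases eq_or_ne x y with rfl | hne
  · exact le_rfl
  · exact (sdim_lt_of_specializes p h hne).le

variable (d : ℕ) [IrreducibleSpace X]
  (hd : ∀ y : Y, topologicalKrullDim (f ⁻¹' {y} : Set X) = (d : WithBot ℕ∞))

include q hd in
theorem sdim_le_add (x : X) : sdim (f ≫ q) x ≤ d + sdim q (f x) :=
  (dim_preimage_singleton_le_iff q f (f x) d).mp (hd _).le x rfl

include q hd in
theorem sdim_genericPoint : sdim (f ≫ q) (genericPoint X) = d + sdim q (f (genericPoint X)) := by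
  refine le_antisymm (sdim_le_add q f d hd _) ?_
  set η := f (genericPoint X) with hη
  have hle : topologicalKrullDim (f ⁻¹' {η} : Set X) ≤
      ((sdim (f ≫ q) (genericPoint X) - sdim q η : ℕ) : WithBot ℕ∞) := by
    refine (dim_preimage_singleton_le_iff q f η _).mpr fun a ha => ?_
    have := sdim_le_of_specializes (f ≫ q) ((genericPoint_spec X).specializes (Set.mem_univ a))
    omega
  rw [hd] at hle
  have h2 : d ≤ sdim (f ≫ q) (genericPoint X) - sdim q η := by exact_mod_cast hle
  have h3 : sdim q η ≤ sdim (f ≫ q) (genericPoint X) := sdim_le_comp q f _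
  omega

include q hd in
theorem exists_component (x : X) :
    ∃ x', x' ⤳ x ∧ f x' = f x ∧ sdim (f ≫ q) x' = d + sdim q (f x) := by
  obtain ⟨x', -, h2, h3, h4⟩ := exists_fibre_lower q f ((genericPoint_spec X).specializes (Set.mem_univ x))
  refine ⟨x', h2, h3, le_antisymm (h3 ▸ sdim_le_add q f d hd x') ?_⟩
  have := sdim_genericPoint q f d hd
  omega

include q hd in
theorem fibreDimAt_eq (x : X) : FlatMor.fibreDimAt f x = (d : WithBot ℕ∞) := by
  refine le_antisymm ((FibDim14.fibreDimAt_le_iff f).mpr fun y _ _ => ?_) ?_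
  · have h1 := sdim_eq_add_rd q f y
    have h2 := sdim_le_add q f d hd y
    omega
  · obtain ⟨x', h2, h3, h4⟩ := exists_component q f d hd x
    have h1 := sdim_eq_add_rd q f x'
    rw [h3] at h1
    have : FibDim14.rd f x' = d := by omega
    exact this ▸ FibDim14.rd_le_fibreDimAt f h2 h3

include q hd in
theorem universallyOpen [IrreducibleSpace Y] [Surjective f]
    (hN : ∀ y : Y, IsDomain (Y.presheaf.stalk y) ∧ IsIntegrallyClosed (Y.presheaf.stalk y)) :
    UniversallyOpen f := by
  refine S2568.result (fun y => ?_) f fun x => ?_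
  · haveI := (hN y).1
    haveI := (hN y).2
    exact UnivOpenFin5.isGeomUnibranch_of_normal _
  · rw [fibreDimAt_eq q f d hd x, (f.fiberHomeo _).isHomeomorph.topologicalKrullDim_eq]
    exact (hd _).symm

end Groth.Agent.FamCyc26
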