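import Groth.Agent.Lib.FamCyc26.Equi
import Mathlib.AlgebraicGeometry.AlgClosed.Basic
import Mathlib.AlgebraicGeometry.IdealSheaf.Subscheme
import Mathlib.AlgebraicGeometry.Morphisms.UniversallyOpen
import Mathlib.AlgebraicGeometry.Morphisms.Proper

/-!
A family of `d`-cycles over a connected base whose sweep has dimension `d` is constant.
-/

universe u

open CategoryTheory CategoryTheory.Limits AlgebraicGeometry TopologicalSpace

set_option backward.isDefEq.respectTransparency false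

namespace Groth.Agent.FamCyc26

open Groth.Agent.VarDim

variable {k : Type u} [Field k] [IsAlgClosed k] {X Y : Scheme.{u}}
  (sX : X ⟶ Spec (CommRingCat.of k)) (sY : Y ⟶ Spec (CommRingCat.of k))

/-- The slice over a closed point of the second factor. -/
theorem exists_slice [IsSeparated sY] [LocallyOfFiniteType sY] [LocallyOfFiniteType sX] {y : Y}
    (hy : IsClosed ({y} : Set Y)) :
    ∃ s : X ⟶ pullback sX sY, s ≫ pullback.fst sX sY = 𝟙 X ∧
      Set.range s = pullback.snd sX sY ⁻¹' {y} ∧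
      ∀ x, sdim sX x = sdim (pullback.fst sX sY ≫ sX) (s x) := by
  let yk : Spec (CommRingCat.of k) ⟶ Y := pointOfClosedPoint sY y hy
  have hyk : yk ≫ sY = 𝟙 _ := pointOfClosedPoint_comp sY y hy
  let s : X ⟶ pullback sX sY := pullback.lift (𝟙 X) (sX ≫ yk) (by simp [hyk])
  have hs : s ≫ pullback.fst sX sY = 𝟙 X := pullback.lift_fst _ _ _
  have hs2 : s ≫ pullback.snd sX sY = sX ≫ yk := pullback.lift_snd _ _ _
  haveI : IsClosedImmersion (s ≫ pullback.fst sX sY) := by rw [hs]; infer_instance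
  haveI : IsClosedImmersion s := IsClosedImmersion.of_comp s (pullback.fst sX sY)
  refine ⟨s, hs, Set.Subset.antisymm ?_ ?_, fun x => ?_⟩
  · rintro _ ⟨x, rfl⟩
    show pullback.snd sX sY (s x) = y
    rw [← Scheme.Hom.comp_apply, hs2, Scheme.Hom.comp_apply]
    exact pointOfClosedPoint_apply sY y hy _
  · intro w hw
    let t := pullback.fst (pullback.snd sX sY) yk
    have hwt : w ∈ Set.range t := by
      rw [Scheme.Pullback.range_fst]
      exact ⟨IsLocalRing.closedPoint k, (pointOfClosedPoint_apply sY y hy _).trans (Set.mem_singleton_iff.mp hw).symm⟩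
    have ht : t = (t ≫ pullback.fst sX sY) ≫ s := by
      refine pullback.hom_ext (by rw [Category.assoc, hs, Category.comp_id]) ?_
      rw [Category.assoc, hs2, Category.assoc, pullback.condition_assoc]
      show t ≫ pullback.snd sX sY = t ≫ pullback.snd sX sY ≫ sY ≫ yk
      rw [← Category.assoc t (pullback.snd sX sY) (sY ≫ yk), show t ≫ pullback.snd sX sY = _ from pullback.condition,
        Category.assoc, reassoc_of% hyk]
    obtain ⟨z, rfl⟩ := hwt
    exact ⟨(t ≫ pullback.fst sX sY) z, (congrArg (fun g => g z) ht).symm⟩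
  · rw [← sdim_comp_of_surjective (pullback.fst sX sY ≫ sX) s x, ← Category.assoc, hs, Category.id_comp]

theorem sdim_fst [IsSeparated sY] [LocallyOfFiniteType sY] [LocallyOfFiniteType sX] {w : ↥(pullback sX sY)}
    (hw : IsClosed ({pullback.snd sX sY w} : Set Y)) :
    sdim sX (pullback.fst sX sY w) = sdim (pullback.fst sX sY ≫ sX) w := by
  obtain ⟨s, hs, hr, hdim⟩ := exists_slice sX sY hw
  obtain ⟨x, hx⟩ : w ∈ Set.range s := hr ▸ (rfl : pullback.snd sX sY w = pullback.snd sX sY w)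
  rw [← hx, ← hdim, ← Scheme.Hom.comp_apply, hs]
  rfl

theorem main [LocallyOfFiniteType sX] [QuasiCompact sX] [IsProper sY] [IrreducibleSpace Y]
    (hN : ∀ y : Y, IsDomain (Y.presheaf.stalk y) ∧ IsIntegrallyClosed (Y.presheaf.stalk y))
    (d : ℕ) {n : ℕ} (Z : Fin n → Set ↥(pullback sX sY))
    (hZc : ∀ i, IsClosed (Z i)) (hZi : ∀ i, IsIrreducible (Z i))
    (hZs : ∀ i, pullback.snd sX sY '' Z i = Set.univ)
    (hZd : ∀ i (y : Y), topologicalKrullDim ↥(Z i ∩ pullback.snd sX sY ⁻¹' {y}) = d)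
    (B : Set Y) (hB : IsClosed B) (hBc : _root_.IsPreconnected B)
    (hFd : topologicalKrullDim
        ↥(pullback.fst sX sY '' ((⋃ i, Z i) ∩ pullback.snd sX sY ⁻¹' B)) = d) :
    pullback.fst sX sY ⁻¹' (pullback.fst sX sY '' ((⋃ i, Z i) ∩ pullback.snd sX sY ⁻¹' B)) ∩
        pullback.snd sX sY ⁻¹' B ⊆ (⋃ i, Z i) ∩ pullback.snd sX sY ⁻¹' B := by
  classical
  let p := pullback.fst sX sY
  let g := pullback.snd sX sY
  let F : Set X := p '' ((⋃ i, Z i) ∩ g ⁻¹' B)
  have hZu : IsClosed (⋃ i, Z i) := isClosed_iUnion_of_finite hZc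
  have hS : IsClosed ((⋃ i, Z i) ∩ g ⁻¹' B) := hZu.inter (hB.preimage g.continuous)
  have hF : IsClosed F := p.isClosedMap _ hS
  haveI : JacobsonSpace Y := LocallyOfFiniteType.jacobsonSpace sY
  haveI : JacobsonSpace X := LocallyOfFiniteType.jacobsonSpace sX
  haveI : JacobsonSpace ↥(pullback sX sY) := LocallyOfFiniteType.jacobsonSpace (p ≫ sX)
  haveI : IsLocallyNoetherian X := LocallyOfFiniteType.isLocallyNoetherian sX
  haveI : CompactSpace X := QuasiCompact.compactSpace_of_compactSpace sX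
  haveI : IsNoetherian X := {}
  -- upper bound on the sweep
  have hub : ∀ a ∈ F, sdim sX a ≤ d := by
    intro a ha
    have h1 : topologicalKrullDim (closure ({a} : Set X)) ≤ topologicalKrullDim F := by
      have hsub : closure ({a} : Set X) ⊆ F := closure_minimal (Set.singleton_subset_iff.mpr ha) hF
      exact (Topology.IsEmbedding.inclusion hsub).isInducing.topologicalKrullDim_le
    have h2 := dim_closure_singleton sX a
    rw [hFd, h2] at h1
    exact_mod_cast h1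
  -- the component schemes
  let T : Fin n → Scheme.{u} := fun i => (Scheme.IdealSheafData.vanishingIdeal ⟨Z i, hZc i⟩).subscheme
  let j : ∀ i, T i ⟶ pullback sX sY := fun i => (Scheme.IdealSheafData.vanishingIdeal ⟨Z i, hZc i⟩).subschemeι
  have hr : ∀ i, Set.range (j i) = Z i := fun i => by
    rw [Scheme.IdealSheafData.range_subschemeι, Scheme.IdealSheafData.coe_support_vanishingIdeal]
    rfl
  have hj : ∀ i, IsClosedImmersion (j i) := fun i => inferInstance
  haveI hirr : ∀ i, IrreducibleSpace (T i) := fun i => by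
    haveI := Subtype.irreducibleSpace (hr i ▸ hZi i)
    exact (j i).isClosedEmbedding.isEmbedding.toHomeomorph.symm.surjective.irreducibleSpace
      (j i).isClosedEmbedding.isEmbedding.toHomeomorph.symm.continuous
  have hsurj : ∀ i, Surjective (j i ≫ g) := fun i => ⟨fun y => by
    obtain ⟨w, hw, rfl⟩ : y ∈ g '' Z i := by rw [hZs i]; trivial
    obtain ⟨z, rfl⟩ : w ∈ Set.range (j i) := by rw [hr i]; exact hw
    exact ⟨z, Scheme.Hom.comp_apply _ _ _⟩⟩
  have hTd : ∀ i (y : Y), topologicalKrullDim ((j i ≫ g) ⁻¹' {y} : Set (T i)) = (d : WithBot ℕ∞) := fun i y => by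
    have he : (j i) '' ((j i ≫ g) ⁻¹' {y}) = Z i ∩ g ⁻¹' {y} := by
      rw [← hr i]
      ext w
      constructor
      · rintro ⟨z, hz, rfl⟩
        exact ⟨⟨z, rfl⟩, by simpa using hz⟩
      · rintro ⟨⟨z, rfl⟩, hz⟩
        exact ⟨z, by simpa using hz, rfl⟩
    rw [(((j i).isClosedEmbedding.isEmbedding.homeomorphImage ((j i ≫ g) ⁻¹' {y})).trans
      (Homeomorph.setCongr he)).isHomeomorph.topologicalKrullDim_eq]
    exact hZd i y
  have hopen : ∀ i, IsOpenMap (j i ≫ g) := fun i => by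
    haveI := hsurj i
    haveI := universallyOpen sY (j i ≫ g) d (hTd i) hN
    exact (j i ≫ g).isOpenMap
  -- components of closed fibres give maximal points of the sweep
  have hcomp : ∀ i w, w ∈ Z i → g w ∈ B → IsClosed ({g w} : Set Y) →
      ∃ w', w' ⤳ w ∧ g w' = g w ∧ w' ∈ Z i ∧ p w' ∈ F ∧ sdim sX (p w') = d := by
    intro i w hw hwB hy
    obtain ⟨z, rfl⟩ : w ∈ Set.range (j i) := by rw [hr i]; exact hw
    haveI := hsurj i
    obtain ⟨z', hz', he, hdim⟩ := exists_component sY (j i ≫ g) d (hTd i) z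
    rw [Scheme.Hom.comp_apply, Scheme.Hom.comp_apply] at he
    have hmem : j i z' ∈ Z i := hr i ▸ ⟨z', rfl⟩
    refine ⟨j i z', hz'.map (j i).continuous, he, hmem,
      ⟨_, ⟨Set.mem_iUnion.mpr ⟨i, hmem⟩, show g (j i z') ∈ B from he ▸ hwB⟩, rfl⟩, ?_⟩
    rw [sdim_fst sX sY (he ▸ hy : IsClosed ({g (j i z')} : Set Y)), pullback.condition,
      ← sdim_comp_of_surjective _ (j i) z', ← Category.assoc, hdim, Scheme.Hom.comp_apply,
      (sdim_eq_zero_iff_isClosed sY (g (j i z))).mpr hy]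
    rfl
  rintro w ⟨hwF, hwB⟩
  refine ⟨?_, hwB⟩
  by_contra hnot
  -- reduce to a closed point
  obtain ⟨v, ⟨⟨hvF, hvB⟩, hvn⟩, hvc⟩ := nonempty_inter_closedPoints
    (Z := (p ⁻¹' F ∩ g ⁻¹' B) ∩ (⋃ i, Z i)ᶜ) ⟨w, ⟨hwF, hwB⟩, hnot⟩
    (((hF.preimage p.continuous).inter (hB.preimage g.continuous)).isLocallyClosed.inter
      hZu.isOpen_compl.isLocallyClosed)
  haveI : LocallyOfFiniteType g := inferInstance
  have hyv : IsClosed ({g v} : Set Y) := isClosed_singleton_image sY g hvc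
  have hxv : IsClosed ({p v} : Set X) := isClosed_singleton_image sX p hvc
  obtain ⟨w₁, ⟨hw₁, hpw₁⟩, hw₁c⟩ := nonempty_inter_closedPoints
    (Z := ((⋃ i, Z i) ∩ g ⁻¹' B) ∩ p ⁻¹' {p v}) (by obtain ⟨a, ha, e⟩ := hvF; exact ⟨a, ha, e⟩)
    ((hS.inter (hxv.preimage p.continuous)).isLocallyClosed)
  obtain ⟨i, hi⟩ := Set.mem_iUnion.mp hw₁.1
  obtain ⟨w₂, hw₂, hg₂, hwZ₂, hpF₂, hd₂⟩ := hcomp i w₁ hi hw₁.2 (isClosed_singleton_image sY g hw₁c)
  let c := p w₂
  have hdc : sdim sX c = d := hd₂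
  have hcv : c ⤳ p v := (Set.mem_singleton_iff.mp hpw₁) ▸ hw₂.map p.continuous
  have hcmax : ∀ a ∈ F, a ⤳ c → a = c := fun a ha h => by
    by_contra hne
    have := sdim_lt_of_specializes sX h hne
    have := hub a ha
    omega
  obtain ⟨G, hG⟩ := exists_finite_generic hF
  let U : Set X := ⋂ h ∈ G.filter (fun h => h ≠ c), (closure {h})ᶜ
  have hUo : IsOpen U := isOpen_biInter_finset fun _ _ => isClosed_closure.isOpen_compl
  have hUc : c ∈ U := Set.mem_iInter₂.mpr fun h hh hmem => by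
    obtain ⟨hhG, hne⟩ := Finset.mem_filter.mp hh
    exact hne (hcmax h ((hG h).mpr ⟨h, hhG, specializes_rfl⟩) (specializes_iff_mem_closure.mpr hmem))
  have hUF : ∀ a ∈ F, a ∈ U → c ⤳ a := fun a ha haU => by
    obtain ⟨h, hhG, hha⟩ := (hG a).mp ha
    by_contra hca
    have hne : h ≠ c := fun e => hca (e ▸ hha)
    exact Set.mem_iInter₂.mp haU h (Finset.mem_filter.mpr ⟨hhG, hne⟩) (specializes_iff_mem_closure.mp hha)
  let O : Set Y := ⋃ i, (j i ≫ g) '' ((j i ≫ p) ⁻¹' U)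
  have hOo : IsOpen O := isOpen_iUnion fun i => hopen i _ (hUo.preimage (j i ≫ p).continuous)
  -- points of `O` closed in `B` have the slice of `c` inside `Z`
  have hA : ∀ y ∈ B, IsClosed ({y} : Set Y) → y ∈ O → ∀ a, g a = y → c ⤳ p a → a ∈ ⋃ i, Z i := by
    intro y hyB hy hyO a ha hca
    obtain ⟨i, z, hzU, hzy⟩ := Set.mem_iUnion.mp hyO
    rw [Scheme.Hom.comp_apply] at hzy
    have hgz : g (j i z) = y := hzy
    obtain ⟨b, hb, hgb, hbZ, hpb, hdb⟩ := hcomp i (j i z) (hr i ▸ ⟨z, rfl⟩) (hgz ▸ hyB) (hgz ▸ hy)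
    have hbU : p b ∈ U := (hb.map p.continuous).mem_open hUo (by rw [← Scheme.Hom.comp_apply]; exact hzU)
    have hbc : p b = c := by
      by_contra hne
      have := sdim_lt_of_specializes sX (hUF _ hpb hbU) (Ne.symm hne)
      omega
    obtain ⟨s, hs, hrs, -⟩ := exists_slice sX sY hy
    have hsp : ∀ x : X, p (s x) = x := fun x => by rw [← Scheme.Hom.comp_apply, hs]; rfl
    obtain ⟨xb, rfl⟩ : b ∈ Set.range s := hrs ▸ (show g b = y from hgb.trans hgz)
    obtain ⟨xa, rfl⟩ : a ∈ Set.range s := hrs ▸ (show g a = y from ha)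
    rw [hsp] at hbc hca
    subst hbc
    exact Set.mem_iUnion.mpr ⟨i, (hca.map s.continuous).mem_closed (hZc i) hbZ⟩
  -- the bad set is open
  let C : Scheme.{u} := (Scheme.IdealSheafData.vanishingIdeal ⟨closure {c}, isClosed_closure⟩).subscheme
  let e : C ⟶ X := (Scheme.IdealSheafData.vanishingIdeal ⟨closure {c}, isClosed_closure⟩).subschemeι
  have hre : Set.range e = closure {c} := by
    rw [Scheme.IdealSheafData.range_subschemeι, Scheme.IdealSheafData.coe_support_vanishingIdeal]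
    rfl
  let m := pullback.fst p e
  have hrm : Set.range m = p ⁻¹' closure {c} := by rw [Scheme.Pullback.range_fst, hre]
  haveI : LocallyOfFinitePresentation (e ≫ sX) := locallyOfFinitePresentation_of_locallyNoetherian _
  haveI : UniversallyOpen (m ≫ g) :=
    MorphismProperty.of_isPullback
      ((IsPullback.of_hasPullback p e).paste_horiz (IsPullback.of_hasPullback sX sY).flip).flip
      (inferInstance : UniversallyOpen (e ≫ sX))
  let M : Set Y := (m ≫ g) '' (m ⁻¹' (⋃ i, Z i)ᶜ)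
  have hMo : IsOpen M := (m ≫ g).isOpenMap _ (hZu.isOpen_compl.preimage m.continuous)
  have hM : ∀ y, y ∈ M ↔ ∃ a, g a = y ∧ c ⤳ p a ∧ a ∉ ⋃ i, Z i := by
    intro y
    constructor
    · rintro ⟨z, hz, rfl⟩
      exact ⟨m z, (Scheme.Hom.comp_apply _ _ _).symm,
        specializes_iff_mem_closure.mpr (hrm.subset ⟨z, rfl⟩), hz⟩
    · rintro ⟨a, rfl, hca, ha⟩
      obtain ⟨z, rfl⟩ : a ∈ Set.range m := hrm.superset (specializes_iff_mem_closure.mp hca)
      exact ⟨z, ha, Scheme.Hom.comp_apply _ _ _⟩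
  -- the connectedness argument
  have hcov : B ⊆ O ∪ M := by
    by_contra hnc
    obtain ⟨y₀, hy₀B, hy₀⟩ := Set.not_subset.mp hnc
    obtain ⟨y, ⟨hyB, hyn⟩, hy⟩ := nonempty_inter_closedPoints (Z := B ∩ (O ∪ M)ᶜ) ⟨y₀, hy₀B, hy₀⟩
      (hB.isLocallyClosed.inter (hOo.union hMo).isClosed_compl.isLocallyClosed)
    obtain ⟨s, hs, hrs, -⟩ := exists_slice sX sY (show IsClosed ({y} : Set Y) from hy)
    have hgs : g (s c) = y := hrs.subset ⟨c, rfl⟩
    have hps : p (s c) = c := by rw [← Scheme.Hom.comp_apply, hs]; rfl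
    have hsZ : s c ∈ ⋃ i, Z i := by
      by_contra h
      exact hyn (Or.inr ((hM y).mpr ⟨s c, hgs, hps.symm ▸ specializes_rfl, h⟩))
    obtain ⟨l, hl⟩ := Set.mem_iUnion.mp hsZ
    obtain ⟨z, hz⟩ : s c ∈ Set.range (j l) := by rw [hr l]; exact hl
    refine hyn (Or.inl (Set.mem_iUnion.mpr ⟨l, z, ?_, ?_⟩))
    · show (j l ≫ p) z ∈ U
      rw [Scheme.Hom.comp_apply, hz, hps]
      exact hUc
    · rw [Scheme.Hom.comp_apply, hz, hgs]
  have hBO : (B ∩ O).Nonempty := by
    obtain ⟨z, hz⟩ : w₂ ∈ Set.range (j i) := by rw [hr i]; exact hwZ₂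
    refine ⟨g w₂, hg₂ ▸ hw₁.2, Set.mem_iUnion.mpr ⟨i, z, ?_, ?_⟩⟩
    · show (j i ≫ p) z ∈ U
      rw [Scheme.Hom.comp_apply, hz]
      exact hUc
    · rw [Scheme.Hom.comp_apply, hz]
  have hBM : (B ∩ M).Nonempty := ⟨g v, hvB, (hM _).mpr ⟨v, rfl, hcv, hvn⟩⟩
  obtain ⟨y, ⟨hyB, hyO, hyM⟩, hy⟩ := nonempty_inter_closedPoints (hBc O M hOo hMo hcov hBO hBM)
    (hB.isLocallyClosed.inter (hOo.inter hMo).isLocallyClosed)
  obtain ⟨a, ha, hca, han⟩ := (hM y).mp hyM
  exact han (hA y hyB hy hyO a ha hca)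

end Groth.Agent.FamCyc26
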